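import Cfsg.Agent.H29.CosetCert.He.Steps0
import Cfsg.Agent.H29.CosetCert.He.Steps1
import Cfsg.Agent.H29.CosetCert.He.Steps2
import Cfsg.Agent.H29.CosetCert.He.Steps3
import Cfsg.Agent.H29.CosetCert.Sound

/-! Certificate data for He, produced by a coset enumeration outside Lean and checked here. -/

set_option autoImplicit false
set_option maxRecDepth 4000

namespace H29.CosetCert.HeData

open H29.CosetCert

theorem deds : ∀ k, nd ≤ k → k < N → ∃ s, chkDed F R S k s = true := by
  intro k h1 h2
  unfold nd at h1
  unfold N at h2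
  by_cases c0 : k < 5559
  · exact chkList_get F R S st0 5303 st0_ok.1 k (by omega) (by rw [st0_ok.2]; omega)
  by_cases c1 : k < 5815
  · exact chkList_get F R S st1 5559 st1_ok.1 k (by omega) (by rw [st1_ok.2]; omega)
  by_cases c2 : k < 6071
  · exact chkList_get F R S st2 5815 st2_ok.1 k (by omega) (by rw [st2_ok.2]; omega)
  by_cases c3 : k < 6327
  · exact chkList_get F R S st3 6071 st3_ok.1 k (by omega) (by rw [st3_ok.2]; omega)
  by_cases c4 : k < 6583
  · exact chkList_get F R S st4 6327 st4_ok.1 k (by omega) (by rw [st4_ok.2]; omega)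
  by_cases c5 : k < 6839
  · exact chkList_get F R S st5 6583 st5_ok.1 k (by omega) (by rw [st5_ok.2]; omega)
  by_cases c6 : k < 7095
  · exact chkList_get F R S st6 6839 st6_ok.1 k (by omega) (by rw [st6_ok.2]; omega)
  by_cases c7 : k < 7351
  · exact chkList_get F R S st7 7095 st7_ok.1 k (by omega) (by rw [st7_ok.2]; omega)
  by_cases c8 : k < 7607
  · exact chkList_get F R S st8 7351 st8_ok.1 k (by omega) (by rw [st8_ok.2]; omega)
  by_cases c9 : k < 7863
  · exact chkList_get F R S st9 7607 st9_ok.1 k (by omega) (by rw [st9_ok.2]; omega)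
  by_cases c10 : k < 8119
  · exact chkList_get F R S st10 7863 st10_ok.1 k (by omega) (by rw [st10_ok.2]; omega)
  by_cases c11 : k < 8375
  · exact chkList_get F R S st11 8119 st11_ok.1 k (by omega) (by rw [st11_ok.2]; omega)
  by_cases c12 : k < 8631
  · exact chkList_get F R S st12 8375 st12_ok.1 k (by omega) (by rw [st12_ok.2]; omega)
  by_cases c13 : k < 8887
  · exact chkList_get F R S st13 8631 st13_ok.1 k (by omega) (by rw [st13_ok.2]; omega)
  by_cases c14 : k < 9143
  · exact chkList_get F R S st14 8887 st14_ok.1 k (by omega) (by rw [st14_ok.2]; omega)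
  by_cases c15 : k < 9399
  · exact chkList_get F R S st15 9143 st15_ok.1 k (by omega) (by rw [st15_ok.2]; omega)
  by_cases c16 : k < 9655
  · exact chkList_get F R S st16 9399 st16_ok.1 k (by omega) (by rw [st16_ok.2]; omega)
  by_cases c17 : k < 9911
  · exact chkList_get F R S st17 9655 st17_ok.1 k (by omega) (by rw [st17_ok.2]; omega)
  by_cases c18 : k < 10167
  · exact chkList_get F R S st18 9911 st18_ok.1 k (by omega) (by rw [st18_ok.2]; omega)
  by_cases c19 : k < 10423
  · exact chkList_get F R S st19 10167 st19_ok.1 k (by omega) (by rw [st19_ok.2]; omega)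
  by_cases c20 : k < 10679
  · exact chkList_get F R S st20 10423 st20_ok.1 k (by omega) (by rw [st20_ok.2]; omega)
  by_cases c21 : k < 10935
  · exact chkList_get F R S st21 10679 st21_ok.1 k (by omega) (by rw [st21_ok.2]; omega)
  by_cases c22 : k < 11191
  · exact chkList_get F R S st22 10935 st22_ok.1 k (by omega) (by rw [st22_ok.2]; omega)
  by_cases c23 : k < 11447
  · exact chkList_get F R S st23 11191 st23_ok.1 k (by omega) (by rw [st23_ok.2]; omega)
  by_cases c24 : k < 11703
  · exact chkList_get F R S st24 11447 st24_ok.1 k (by omega) (by rw [st24_ok.2]; omega)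
  by_cases c25 : k < 11959
  · exact chkList_get F R S st25 11703 st25_ok.1 k (by omega) (by rw [st25_ok.2]; omega)
  by_cases c26 : k < 12215
  · exact chkList_get F R S st26 11959 st26_ok.1 k (by omega) (by rw [st26_ok.2]; omega)
  by_cases c27 : k < 12471
  · exact chkList_get F R S st27 12215 st27_ok.1 k (by omega) (by rw [st27_ok.2]; omega)
  by_cases c28 : k < 12727
  · exact chkList_get F R S st28 12471 st28_ok.1 k (by omega) (by rw [st28_ok.2]; omega)
  by_cases c29 : k < 12983
  · exact chkList_get F R S st29 12727 st29_ok.1 k (by omega) (by rw [st29_ok.2]; omega)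
  by_cases c30 : k < 13239
  · exact chkList_get F R S st30 12983 st30_ok.1 k (by omega) (by rw [st30_ok.2]; omega)
  by_cases c31 : k < 13495
  · exact chkList_get F R S st31 13239 st31_ok.1 k (by omega) (by rw [st31_ok.2]; omega)
  by_cases c32 : k < 13751
  · exact chkList_get F R S st32 13495 st32_ok.1 k (by omega) (by rw [st32_ok.2]; omega)
  by_cases c33 : k < 14007
  · exact chkList_get F R S st33 13751 st33_ok.1 k (by omega) (by rw [st33_ok.2]; omega)
  by_cases c34 : k < 14263
  · exact chkList_get F R S st34 14007 st34_ok.1 k (by omega) (by rw [st34_ok.2]; omega)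
  by_cases c35 : k < 14519
  · exact chkList_get F R S st35 14263 st35_ok.1 k (by omega) (by rw [st35_ok.2]; omega)
  by_cases c36 : k < 14775
  · exact chkList_get F R S st36 14519 st36_ok.1 k (by omega) (by rw [st36_ok.2]; omega)
  by_cases c37 : k < 15031
  · exact chkList_get F R S st37 14775 st37_ok.1 k (by omega) (by rw [st37_ok.2]; omega)
  by_cases c38 : k < 15287
  · exact chkList_get F R S st38 15031 st38_ok.1 k (by omega) (by rw [st38_ok.2]; omega)
  by_cases c39 : k < 15543
  · exact chkList_get F R S st39 15287 st39_ok.1 k (by omega) (by rw [st39_ok.2]; omega)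
  by_cases c40 : k < 15799
  · exact chkList_get F R S st40 15543 st40_ok.1 k (by omega) (by rw [st40_ok.2]; omega)
  by_cases c41 : k < 16055
  · exact chkList_get F R S st41 15799 st41_ok.1 k (by omega) (by rw [st41_ok.2]; omega)
  by_cases c42 : k < 16311
  · exact chkList_get F R S st42 16055 st42_ok.1 k (by omega) (by rw [st42_ok.2]; omega)
  by_cases c43 : k < 16567
  · exact chkList_get F R S st43 16311 st43_ok.1 k (by omega) (by rw [st43_ok.2]; omega)
  by_cases c44 : k < 16823
  · exact chkList_get F R S st44 16567 st44_ok.1 k (by omega) (by rw [st44_ok.2]; omega)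
  by_cases c45 : k < 17079
  · exact chkList_get F R S st45 16823 st45_ok.1 k (by omega) (by rw [st45_ok.2]; omega)
  by_cases c46 : k < 17335
  · exact chkList_get F R S st46 17079 st46_ok.1 k (by omega) (by rw [st46_ok.2]; omega)
  by_cases c47 : k < 17591
  · exact chkList_get F R S st47 17335 st47_ok.1 k (by omega) (by rw [st47_ok.2]; omega)
  by_cases c48 : k < 17847
  · exact chkList_get F R S st48 17591 st48_ok.1 k (by omega) (by rw [st48_ok.2]; omega)
  by_cases c49 : k < 18103
  · exact chkList_get F R S st49 17847 st49_ok.1 k (by omega) (by rw [st49_ok.2]; omega)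
  by_cases c50 : k < 18129
  · exact chkList_get F R S st50 18103 st50_ok.1 k (by omega) (by rw [st50_ok.2]; omega)
  omega

end H29.CosetCert.HeData
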