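import Cfsg.Agent.H29.CosetCert.He.Table

/-! Certificate data for He, produced by a coset enumeration outside Lean and checked here. -/

set_option autoImplicit false
set_option maxRecDepth 4000

namespace H29.CosetCert.HeData

open H29.CosetCert

theorem rels0_ok : allIn (fun c => allIn (fun i => runR T (R.getD i []) c == c) 0 32) 0 300
    = true := by decide +kernel

theorem rels1_ok : allIn (fun c => allIn (fun i => runR T (R.getD i []) c == c) 0 32) 300 300
    = true := by decide +kernel

theorem rels2_ok : allIn (fun c => allIn (fun i => runR T (R.getD i []) c == c) 0 32) 600 300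
    = true := by decide +kernel

theorem rels3_ok : allIn (fun c => allIn (fun i => runR T (R.getD i []) c == c) 0 32) 900 300
    = true := by decide +kernel

theorem rels4_ok : allIn (fun c => allIn (fun i => runR T (R.getD i []) c == c) 0 32) 1200 300
    = true := by decide +kernel

theorem rels5_ok : allIn (fun c => allIn (fun i => runR T (R.getD i []) c == c) 0 32) 1500 300
    = true := by decide +kernel

theorem rels6_ok : allIn (fun c => allIn (fun i => runR T (R.getD i []) c == c) 0 32) 1800 258
    = true := by decide +kernel

theorem rels_ok (c i : ℕ) (hc : c < 2058) (hi : i < 32) : runR T (R.getD i []) c = c := by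
  by_cases h0 : c < 300
  · exact beq_iff_eq.mp ((allIn_iff _ _ _).1 ((allIn_iff _ _ _).1 rels0_ok c (by omega) (by omega)) i (by omega) (by omega))
  by_cases h1 : c < 600
  · exact beq_iff_eq.mp ((allIn_iff _ _ _).1 ((allIn_iff _ _ _).1 rels1_ok c (by omega) (by omega)) i (by omega) (by omega))
  by_cases h2 : c < 900
  · exact beq_iff_eq.mp ((allIn_iff _ _ _).1 ((allIn_iff _ _ _).1 rels2_ok c (by omega) (by omega)) i (by omega) (by omega))
  by_cases h3 : c < 1200
  · exact beq_iff_eq.mp ((allIn_iff _ _ _).1 ((allIn_iff _ _ _).1 rels3_ok c (by omega) (by omega)) i (by omega) (by omega))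
  by_cases h4 : c < 1500
  · exact beq_iff_eq.mp ((allIn_iff _ _ _).1 ((allIn_iff _ _ _).1 rels4_ok c (by omega) (by omega)) i (by omega) (by omega))
  by_cases h5 : c < 1800
  · exact beq_iff_eq.mp ((allIn_iff _ _ _).1 ((allIn_iff _ _ _).1 rels5_ok c (by omega) (by omega)) i (by omega) (by omega))
  by_cases h6 : c < 2058
  · exact beq_iff_eq.mp ((allIn_iff _ _ _).1 ((allIn_iff _ _ _).1 rels6_ok c (by omega) (by omega)) i (by omega) (by omega))
  omega

end H29.CosetCert.HeData
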